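import Groth.Prelude.Def_W4c5suslinpi1abAdj
import Mathlib.CategoryTheory.Monoidal.Functor

/-!
# Naturality of projection morphisms and exterior products
-/

universe v u

open CategoryTheory MonoidalCategory Functor.LaxMonoidal Functor.OplaxMonoidal

namespace Groth.Agent.SuslinLib

open W4c5suslinpi1ab

variable {C : Type u} [Category.{v} C] [MonoidalCategory C]
variable {D : Type u} [Category.{v} D] [MonoidalCategory D]

section One

variable {L : C ⥤ D} {R : D ⥤ C} (adj : L ⊣ R) [R.LaxMonoidal]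

theorem projR_naturality {A A' : D} (a : A ⟶ A') {B B' : C} (b : B ⟶ B') :
    (R.map a ⊗ₘ b) ≫ projR adj A' B' = projR adj A B ≫ R.map (a ⊗ₘ L.map b) := by
  have h := adj.unit.naturality b
  dsimp at h
  unfold projR
  rw [Category.assoc, ← μ_natural, ← id_tensorHom, ← id_tensorHom,
    tensorHom_comp_tensorHom_assoc, tensorHom_comp_tensorHom_assoc, Category.comp_id,
    Category.id_comp, h]

theorem projL_naturality {A A' : C} (a : A ⟶ A') {B B' : D} (b : B ⟶ B') :
    (a ⊗ₘ R.map b) ≫ projL adj A' B' = projL adj A B ≫ R.map (L.map a ⊗ₘ b) := by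
  have h := adj.unit.naturality a
  dsimp at h
  unfold projL
  rw [Category.assoc, ← μ_natural, ← tensorHom_id, ← tensorHom_id,
    tensorHom_comp_tensorHom_assoc, tensorHom_comp_tensorHom_assoc, Category.comp_id,
    Category.id_comp, h]

theorem cupShriek_naturality {S : C ⥤ D} (adj' : R ⊣ S)
    [∀ (A : D) (B : C), IsIso (projR adj A B)] (A : C) {B B' : C} (b : B ⟶ B') :
    cupShriek adj adj' A B ≫ S.map (A ◁ b) = (S.obj A ◁ L.map b) ≫ cupShriek adj adj' A B' := by
  unfold cupShriek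
  rw [← Adjunction.homEquiv_naturality_right, ← Adjunction.homEquiv_naturality_left]
  congr 1
  have h := projR_naturality adj (𝟙 (S.obj A)) b
  rw [R.map_id, id_tensorHom, id_tensorHom] at h
  rw [Category.assoc]
  erw [← whisker_exchange]
  rw [IsIso.inv_comp_eq, ← Category.assoc (projR adj _ _),
    ← h, Category.assoc, IsIso.hom_inv_id_assoc]
  rfl

theorem homEquiv_symm_projR [L.OplaxMonoidal] [adj.IsMonoidal] (A : D) (B : C) :
    L.map (projR adj A B) ≫ adj.counit.app (A ⊗ L.obj B) =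
      δ L (R.obj A) B ≫ (adj.counit.app A ⊗ₘ 𝟙 (L.obj B)) := by
  unfold projR
  rw [L.map_comp, Category.assoc, Adjunction.map_μ_comp_counit_app_tensor adj]
  erw [← δ_natural_right_assoc]
  rw [← id_tensorHom]
  erw [tensorHom_comp_tensorHom]
  rw [adj.left_triangle_components, Category.id_comp]

theorem homEquiv_symm_projL [L.OplaxMonoidal] [adj.IsMonoidal] (A : C) (B : D) :
    L.map (projL adj A B) ≫ adj.counit.app (L.obj A ⊗ B) =
      δ L A (R.obj B) ≫ (𝟙 (L.obj A) ⊗ₘ adj.counit.app B) := by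
  unfold projL
  rw [L.map_comp, Category.assoc, Adjunction.map_μ_comp_counit_app_tensor adj]
  erw [← δ_natural_left_assoc]
  rw [← tensorHom_id]
  erw [tensorHom_comp_tensorHom]
  erw [adj.left_triangle_components, Category.id_comp]
  rfl

end One

section Square

variable {S₀ : Type u} [Category.{v} S₀] [MonoidalCategory S₀]
variable {Y₁ : Type u} [Category.{v} Y₁] [MonoidalCategory Y₁]
variable {Y₂ : Type u} [Category.{v} Y₂] [MonoidalCategory Y₂]
variable {X : Type u} [Category.{v} X] [MonoidalCategory X]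
variable {fL : S₀ ⥤ Y₁} {fR : Y₁ ⥤ S₀} (adjf : fL ⊣ fR) [fR.LaxMonoidal]
variable {gR : Y₂ ⥤ S₀}
variable {pL : Y₁ ⥤ X} {pR : X ⥤ Y₁} (adjp : pL ⊣ pR) [pR.LaxMonoidal]
variable {qL : Y₂ ⥤ X} {qR : X ⥤ Y₂} (adjq : qL ⊣ qR) (ν : qR ⋙ gR ⟶ pR ⋙ fR)

theorem extProd_naturality {A A' : Y₁} (a : A ⟶ A') {B B' : Y₂} (b : B ⟶ B') :
    (fR.map a ⊗ₘ gR.map b) ≫ extProd adjf adjp adjq ν A' B' =
      extProd adjf adjp adjq ν A B ≫ fR.map (pR.map (pL.map a ⊗ₘ qL.map b)) := by
  have h := (bcMor adjf adjq ν).naturality b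
  dsimp at h
  unfold extProd
  rw [← Category.assoc, projR_naturality]
  simp only [Category.assoc, ← Functor.map_comp]
  congr 2
  rw [← projL_naturality, ← id_tensorHom, ← id_tensorHom, tensorHom_comp_tensorHom_assoc,
    tensorHom_comp_tensorHom_assoc]
  simp [h]

variable {fS : S₀ ⥤ Y₁} (adjf' : fR ⊣ fS) {gS : S₀ ⥤ Y₂} (adjg' : gR ⊣ gS)
variable {pS : Y₁ ⥤ X} (adjp' : pR ⊣ pS)
variable [∀ (A : Y₁) (B : S₀), IsIso (projR adjf A B)] [∀ (A : Y₁) (B : X), IsIso (projL adjp A B)]
  [∀ B : Y₂, IsIso ((bcMor adjf adjq ν).app B)]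

theorem extProd_prodShriek_counit (A B : S₀) :
    extProd adjf adjp adjq ν (fS.obj A) (gS.obj B) ≫
      fR.map (pR.map (prodShriek adjf adjf' adjg' adjp adjp' adjq ν A B)) ≫
        fR.map (adjp'.counit.app (fS.obj (A ⊗ B))) =
      projR adjf (fS.obj A) (gR.obj (gS.obj B)) ≫
        fR.map (cupShriek adjf adjf' A (gR.obj (gS.obj B)) ≫ fS.map (A ◁ adjg'.counit.app B)) := by
  unfold extProd prodShriek
  simp only [Category.assoc, ← Functor.map_comp]
  congr 2
  rw [show ∀ f, pR.map (adjp'.homEquiv _ _ f) ≫ adjp'.counit.app (fS.obj (A ⊗ B)) = f from fun f => by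
    erw [← adjp'.homEquiv_counit, Equiv.symm_apply_apply]]
  simp

theorem extProd_comp_symm_prodShriek (A B : S₀) :
    extProd adjf adjp adjq ν (fS.obj A) (gS.obj B) ≫
      ((adjp'.comp adjf').homEquiv _ _).symm
        (prodShriek adjf adjf' adjg' adjp adjp' adjq ν A B) =
      (adjf'.counit.app A ⊗ₘ adjg'.counit.app B) := by
  rw [Adjunction.homEquiv_counit]
  simp only [Adjunction.comp_counit_app, Functor.comp_map, Functor.comp_obj, Category.assoc]
  rw [← Category.assoc (fR.map _) (fR.map _), ← Category.assoc (extProd _ _ _ _ _ _)]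
  rw [extProd_prodShriek_counit]
  have h := adjf'.counit.naturality (A ◁ adjg'.counit.app B)
  dsimp at h
  simp only [Functor.map_comp, Category.assoc]
  rw [h, ← Category.assoc (fR.map _), ← Adjunction.homEquiv_counit]
  unfold cupShriek
  rw [Equiv.symm_apply_apply, Category.assoc, IsIso.hom_inv_id_assoc, tensorHom_def]
  rfl

end Square

end Groth.Agent.SuslinLib
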